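import Cfsg.Prelude.Def_Local
import Cfsg.Agent.Lib.Components.Cores
import Cfsg.Agent.Lib.Components.Basic
import Cfsg.Agent.Lib.Coprime.Abelian
import Mathlib.GroupTheory.SpecificGroups.Alternating.Simple
import Mathlib.GroupTheory.Perm.Cycle.Type
import Mathlib.GroupTheory.Sylow

/-!
Standard subgroups of alternating groups.
-/

set_option autoImplicit false
set_option linter.style.haveILetI false
set_option linter.unusedSectionVars false

namespace Cfsg.Agent.Lib.Components.AltStandard

open Subgroup Equiv Equiv.Perm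
open scoped commutatorElement

variable {α : Type*} [Fintype α] [DecidableEq α] {Ω : Finset α}


lemma inv_apply' (f : Perm α) (x : α) : f⁻¹ (f x) = x := f.symm_apply_apply x

lemma apply_inv' (f : Perm α) (x : α) : f (f⁻¹ x) = x := f.apply_symm_apply x

/-- The 3-cycle `a ↦ b ↦ c ↦ a`. -/
def tri {a b c : α} (hab : a ≠ b) (hac : a ≠ c) : ↥(alternatingGroup α) :=
  ⟨swap a c * swap a b, by
    rw [mem_alternatingGroup, Perm.sign_mul, sign_swap hac, sign_swap hab]; simp⟩

lemma tri_fst {a b c : α} (hab : a ≠ b) (hac : a ≠ c) (hbc : b ≠ c) :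
    (tri hab hac : Perm α) a = b := by
  simp [tri, swap_apply_of_ne_of_ne hab.symm hbc]

lemma tri_other {a b c x : α} (hab : a ≠ b) (hac : a ≠ c) (h1 : x ≠ a) (h2 : x ≠ b) (h3 : x ≠ c) :
    (tri hab hac : Perm α) x = x := by
  simp [tri, swap_apply_of_ne_of_ne h1 h2, swap_apply_of_ne_of_ne h1 h3]

lemma exists_outside (hΩ : Ω.card ≤ 4) (hn : 9 ≤ Fintype.card α) (T : Finset α) (hT : T.card ≤ 4) :
    ∃ x, x ∉ Ω ∧ x ∉ T := by
  by_contra h
  push Not at h
  have : (Finset.univ : Finset α) ⊆ Ω ∪ T := fun x _ => by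
    by_cases hx : x ∈ Ω
    · exact Finset.mem_union_left _ hx
    · exact Finset.mem_union_right _ (h x hx)
  have := (Finset.card_le_card this).trans (Finset.card_union_le Ω T)
  rw [Finset.card_univ] at this
  omega

/-- The even permutations supported in `Ω`. -/
def suppIn (Ω : Finset α) : Subgroup ↥(alternatingGroup α) where
  carrier := {σ | ∀ x, x ∉ Ω → (σ : Perm α) x = x}
  one_mem' x _ := rfl
  mul_mem' {σ τ} hσ hτ x hx := by
    show (σ : Perm α) ((τ : Perm α) x) = x
    rw [hτ x hx, hσ x hx]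
  inv_mem' {σ} hσ x hx := by
    show (σ : Perm α)⁻¹ x = x
    rw [Perm.inv_eq_iff_eq, hσ x hx]

variable {L : Subgroup ↥(alternatingGroup α)}

lemma mem_fix_iff_conj (hL : ∀ σ : ↥(alternatingGroup α), σ ∈ L ↔ ∀ x ∈ Ω, (σ : Perm α) x = x) (g σ : ↥(alternatingGroup α)) :
    σ ∈ L.map (MulAut.conj g).toMonoidHom ↔ ∀ x ∈ Ω.image (g : Perm α), (σ : Perm α) x = x := by
  constructor
  · rintro ⟨τ, hτ, rfl⟩ x hx
    obtain ⟨y, hy, rfl⟩ := Finset.mem_image.1 hx
    show (g : Perm α) ((τ : Perm α) ((g : Perm α)⁻¹ ((g : Perm α) y))) = _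
    rw [inv_apply', (hL τ).1 hτ y hy]
  · intro h
    refine ⟨g⁻¹ * σ * g, (hL _).2 fun y hy => ?_, by simp [mul_assoc]⟩
    show (g : Perm α)⁻¹ ((σ : Perm α) ((g : Perm α) y)) = y
    rw [h _ (Finset.mem_image_of_mem _ hy), inv_apply']

lemma exists_fix_moving (hΩ : Ω.card ≤ 4) (hn : 9 ≤ Fintype.card α)
    (hL : ∀ σ : ↥(alternatingGroup α), σ ∈ L ↔ ∀ x ∈ Ω, (σ : Perm α) x = x) {x : α} (hx : x ∉ Ω) (T : Finset α)
    (hT : T.card ≤ 1) (hxT : x ∉ T) :
    ∃ c ∈ L, (c : Perm α) x ≠ x ∧ ∀ y ∈ T, (c : Perm α) y = y := by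
  obtain ⟨u, hu, hu'⟩ := exists_outside hΩ hn (insert x T)
    ((Finset.card_insert_le _ _).trans (by omega))
  obtain ⟨v, hv, hv'⟩ := exists_outside hΩ hn (insert u (insert x T))
    ((Finset.card_insert_le _ _).trans (by have := Finset.card_insert_le x T; omega))
  simp only [Finset.mem_insert, not_or] at hu' hv'
  have hab : x ≠ u := fun e => hu'.1 e.symm
  have hac : x ≠ v := fun e => hv'.2.1 e.symm
  have hbc : u ≠ v := fun e => hv'.1 e.symm
  have hne : ∀ {y}, y ∈ Ω → y ≠ x ∧ y ≠ u ∧ y ≠ v := fun hy =>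
    ⟨fun e => hx (e ▸ hy), fun e => hu (e ▸ hy), fun e => hv (e ▸ hy)⟩
  refine ⟨tri hab hac, (hL _).2 fun y hy => tri_other hab hac (hne hy).1 (hne hy).2.1 (hne hy).2.2,
    ?_, fun y hy => tri_other hab hac (fun e => hxT (e ▸ hy)) (fun e => hu'.2 (e ▸ hy))
      (fun e => hv'.2.2 (e ▸ hy))⟩
  rw [tri_fst hab hac hbc]; exact hab.symm

lemma centralizer_fix (hΩ : Ω.card ≤ 4) (hn : 9 ≤ Fintype.card α)
    (hL : ∀ σ : ↥(alternatingGroup α), σ ∈ L ↔ ∀ x ∈ Ω, (σ : Perm α) x = x) :
    centralizer (L : Set ↥(alternatingGroup α)) = suppIn Ω := by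
  ext σ
  rw [mem_centralizer_iff]
  constructor
  · intro h x hx
    by_contra hne
    obtain ⟨c, hc, hcx, hcy⟩ := exists_fix_moving hΩ hn hL hx {(σ : Perm α) x} (by simp)
      (by simpa using Ne.symm hne)
    have h2 : (c : Perm α) ((σ : Perm α) x) = (σ : Perm α) ((c : Perm α) x) :=
      congrArg (fun τ : ↥(alternatingGroup α) => (τ : Perm α) x) (h c hc)
    rw [hcy _ (Finset.mem_singleton_self _)] at h2
    exact hcx ((σ : Perm α).injective h2).symm
  · intro h c hc
    apply Subtype.ext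
    refine Equiv.ext fun x => ?_
    show (c : Perm α) ((σ : Perm α) x) = (σ : Perm α) ((c : Perm α) x)
    by_cases hx : x ∈ Ω
    · have hσx : (σ : Perm α) x ∈ Ω := by
        by_contra hh
        have := h _ hh
        exact hh (by rw [(σ : Perm α).injective this]; exact hx)
      rw [(hL c).1 hc x hx, (hL c).1 hc _ hσx]
    · have hcx : (c : Perm α) x ∉ Ω := fun hh => by
        have := (hL c).1 hc _ hh
        exact hx ((c : Perm α).injective this ▸ hh)
      rw [h x hx, h _ hcx]

lemma image_eq_of_conj_eq (hΩ : Ω.card ≤ 4) (hn : 9 ≤ Fintype.card α)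
    (hL : ∀ σ : ↥(alternatingGroup α), σ ∈ L ↔ ∀ x ∈ Ω, (σ : Perm α) x = x) {g : ↥(alternatingGroup α)}
    (h : L.map (MulAut.conj g).toMonoidHom = L) : Ω.image (g : Perm α) = Ω := by
  refine Finset.eq_of_subset_of_card_le (fun x hx => ?_)
    (Finset.card_image_of_injective _ (g : Perm α).injective).ge
  by_contra hxΩ
  obtain ⟨c, hc, hcx, -⟩ := exists_fix_moving hΩ hn hL hxΩ ∅ (by simp) (by simp)
  exact hcx ((mem_fix_iff_conj hL g c).1 (h.ge hc) x hx)

/-- `L`, the pointwise stabilizer of a 4-set, is a standard subgroup. -/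
theorem isStandardSubgroup_fix (hΩ : Ω.card = 4) (hn : 9 ≤ Fintype.card α)
    (hL : ∀ σ : ↥(alternatingGroup α), σ ∈ L ↔ ∀ x ∈ Ω, (σ : Perm α) x = x) : IsStandardSubgroup L := by
  have hΩ' : Ω.card ≤ 4 := hΩ.le
  have hC := centralizer_fix hΩ' hn hL
  have hnorm : ∀ g : ↥(alternatingGroup α), g ∈ normalizer (L : Set ↥(alternatingGroup α)) ↔ Ω.image (g : Perm α) = Ω := fun g => by
    refine ⟨fun h => image_eq_of_conj_eq hΩ' hn hL (map_conj_eq_of_mem_normalizer h), fun h => ?_⟩
    refine mem_normalizer_of_map_conj_eq (SetLike.ext fun σ => ?_)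
    rw [mem_fix_iff_conj hL, h]
    exact (hL σ).symm
  -- a double transposition in `Ω`
  obtain ⟨a, b, c, d, hab, hac, had, hbc, hbd, hcd, hΩe⟩ : ∃ a b c d : α,
      a ≠ b ∧ a ≠ c ∧ a ≠ d ∧ b ≠ c ∧ b ≠ d ∧ c ≠ d ∧ Ω = {a, b, c, d} := by
    have := Finset.card_eq_succ.1 hΩ
    obtain ⟨a, t, ha, rfl, ht⟩ := this
    obtain ⟨b, c, d, hbc, hbd, hcd, rfl⟩ := Finset.card_eq_three.1 ht
    simp only [Finset.mem_insert, Finset.mem_singleton, not_or] at ha
    exact ⟨a, b, c, d, ha.1, ha.2.1, ha.2.2, hbc, hbd, hcd, rfl⟩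
  let dt : ↥(alternatingGroup α) := ⟨swap a b * swap c d, by
    rw [mem_alternatingGroup, Perm.sign_mul, sign_swap hab, sign_swap hcd]; simp⟩
  have hdt : dt ∈ suppIn Ω := fun x hx => by
    simp only [hΩe, Finset.mem_insert, Finset.mem_singleton, not_or] at hx
    show swap a b (swap c d x) = x
    rw [swap_apply_of_ne_of_ne hx.2.2.1 hx.2.2.2, swap_apply_of_ne_of_ne hx.1 hx.2.1]
  refine ⟨?_, ⟨?_, fun g hg => ?_⟩, fun g hg hcomm => ?_, ?_⟩
  · -- `L` is an alternating group
    let p : α → Prop := fun x => x ∉ Ω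
    have hcard : 5 ≤ Nat.card (Subtype p) := by
      rw [Nat.card_eq_fintype_card, Fintype.card_subtype_compl, Fintype.card_coe]
      omega
    let f : ↥(alternatingGroup (Subtype p)) →* ↥(alternatingGroup α) :=
      ((ofSubtype (p := p)).comp (alternatingGroup (Subtype p)).subtype).codRestrict _ fun σ => by
        rw [mem_alternatingGroup]
        show sign (ofSubtype (σ : Perm (Subtype p))) = 1
        rw [sign_ofSubtype]; exact mem_alternatingGroup.1 σ.2
    have hf : Function.Injective f := fun σ τ h =>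
      Subtype.ext (ofSubtype_injective (congrArg Subtype.val h :))
    have hrange : f.range = L := by
      refine le_antisymm ?_ fun σ hσ => ?_
      · rintro _ ⟨σ, rfl⟩
        exact (hL _).2 fun x hx => ofSubtype_apply_of_not_mem _ (fun h => h hx)
      · have h1 : ∀ x, p ((σ : Perm α) x) ↔ p x := fun x => by
          refine not_congr ⟨fun h => ?_, fun h => ?_⟩
          · have := (hL σ).1 hσ _ h
            exact (σ : Perm α).injective this ▸ h
          · rwa [(hL σ).1 hσ x h]
        have h2 : ∀ x, (σ : Perm α) x ≠ x → p x := fun x hx hΩx => hx ((hL σ).1 hσ x hΩx)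
        refine ⟨⟨subtypePerm (σ : Perm α) h1, ?_⟩, Subtype.ext (ofSubtype_subtypePerm h1 h2)⟩
        rw [mem_alternatingGroup, sign_subtypePerm _ h1 h2]
        exact mem_alternatingGroup.1 σ.2
    haveI := alternatingGroup.isSimpleGroup hcard
    refine (qs_congr ((MonoidHom.ofInjective hf).trans (MulEquiv.subgroupCongr hrange))).1
      (qs_of_simple fun hcomm => ?_)
    have h1 := alternatingGroup.center_eq_bot (α := Subtype p) (by omega)
    have h2 : center ↥(alternatingGroup (Subtype p)) = ⊤ :=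
      eq_top_iff.2 fun x _ => mem_center_iff.2 fun y => hcomm.1.comm y x
    exact top_ne_bot (h2.symm.trans h1)
  · rw [hC, even_iff_two_dvd]
    have h2 : orderOf dt = 2 := by
      refine orderOf_eq_prime (hp := ⟨Nat.prime_two⟩) ?_ fun e => ?_
      · rw [pow_two]
        apply Subtype.ext
        refine Equiv.ext fun x => ?_
        show swap a b (swap c d (swap a b (swap c d x))) = x
        rcases eq_or_ne x a with rfl | ha
        · simp [swap_apply_of_ne_of_ne hac had, swap_apply_of_ne_of_ne hbc hbd]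
        rcases eq_or_ne x b with rfl | hb
        · simp [swap_apply_of_ne_of_ne hac had, swap_apply_of_ne_of_ne hbc hbd]
        rcases eq_or_ne x c with rfl | hc
        · simp [swap_apply_of_ne_of_ne ha hb, swap_apply_of_ne_of_ne had.symm hbd.symm]
        rcases eq_or_ne x d with rfl | hd
        · simp [swap_apply_of_ne_of_ne ha hb, swap_apply_of_ne_of_ne hac.symm hbc.symm]
        simp [swap_apply_of_ne_of_ne ha hb, swap_apply_of_ne_of_ne hc hd]
      · have : swap a b (swap c d a) = a := congrArg (fun τ : ↥(alternatingGroup α) => (τ : Perm α) a) e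
        rw [swap_apply_of_ne_of_ne hac had, swap_apply_left] at this
        exact hab this.symm
    exact h2 ▸ Subgroup.orderOf_dvd_natCard _ hdt
  · rw [hC] at hg ⊢
    rw [← Nat.not_even_iff_odd, even_iff_two_dvd]
    intro h2
    haveI : Fact (Nat.Prime 2) := ⟨Nat.prime_two⟩
    obtain ⟨t, ht⟩ := exists_prime_orderOf_dvd_card' 2 h2
    have hto : orderOf (((t : ↥(alternatingGroup α))) : Perm α) = 2 := by
      rw [Subgroup.orderOf_coe, Subgroup.orderOf_coe]; exact ht
    obtain ⟨htK, u, hu, hut⟩ := t.2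
    have hΩne : Ω.image (g : Perm α) ≠ Ω := fun he => hg (by
      refine mem_normalizer_of_map_conj_eq ?_
      rw [← hC]
      refine map_conj_eq_of_mem_normalizer (Coprime.normalizer_le_normalizer_centralizer _ ?_)
      exact (hnorm g).2 he)
    have hsub : ((t : ↥(alternatingGroup α)) : Perm α).support ⊆ Ω ∩ Ω.image (g : Perm α) := fun x hx => by
      rw [Perm.mem_support] at hx
      refine Finset.mem_inter.2 ⟨by_contra fun h => hx (htK x h), by_contra fun h => hx ?_⟩
      have hgx : (g : Perm α)⁻¹ x ∉ Ω := fun h' =>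
        h (Finset.mem_image.2 ⟨_, h', apply_inv' _ _⟩)
      rw [← show MulAut.conj g u = (t : ↥(alternatingGroup α)) from hut]
      show (g : Perm α) ((u : Perm α) ((g : Perm α)⁻¹ x)) = x
      rw [hu _ hgx, apply_inv']
    have hlt : (Ω ∩ Ω.image (g : Perm α)).card < 4 := by
      refine lt_of_le_of_ne ((Finset.card_le_card Finset.inter_subset_left).trans hΩ') fun e => hΩne ?_
      have h3 := Finset.eq_of_subset_of_card_le (Finset.inter_subset_left : Ω ∩ Ω.image (g : Perm α) ⊆ Ω) (by omega)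
      refine (Finset.eq_of_subset_of_card_le (Finset.inter_eq_left.1 h3) ?_).symm
      rw [Finset.card_image_of_injective _ (g : Perm α).injective]
    have h3 := Finset.card_le_card hsub
    have h1 : ((t : ↥(alternatingGroup α)) : Perm α) ≠ 1 := fun e => by rw [e, orderOf_one] at hto; omega
    have h2' := Perm.two_le_card_support_of_ne_one h1
    rcases (by omega : ((t : ↥(alternatingGroup α)) : Perm α).support.card = 2 ∨ ((t : ↥(alternatingGroup α)) : Perm α).support.card = 3) with e | e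
    · have := (card_support_eq_two.1 e).sign_eq
      rw [mem_alternatingGroup.1 (t : ↥(alternatingGroup α)).2] at this
      exact absurd this (by decide)
    · rw [(card_support_eq_three_iff.1 e).orderOf] at hto
      omega
  · -- conjugates of `L` do not commute with `L`
    have hne : Ω.image (g : Perm α) ≠ Ω := fun he => hg (map_conj_eq_of_mem_normalizer ((hnorm g).2 he))
    set Ω' := Ω.image (g : Perm α) with hΩ'def
    have hc' : Ω'.card = 4 := (Finset.card_image_of_injective _ (g : Perm α).injective).trans hΩ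
    obtain ⟨j, hj', hjΩ⟩ : ∃ j, j ∈ Ω' ∧ j ∉ Ω := by
      by_contra h
      push Not at h
      exact hne (Finset.eq_of_subset_of_card_le h (by omega))
    obtain ⟨k, hk, hkΩ'⟩ : ∃ k, k ∈ Ω ∧ k ∉ Ω' := by
      by_contra h
      push Not at h
      exact hne (Finset.eq_of_subset_of_card_le h (by omega)).symm
    obtain ⟨i, hiΩ, hiΩ'⟩ := exists_outside hΩ' hn Ω' (by omega)
    obtain ⟨l, hl, hl'⟩ := exists_outside hΩ' hn {i, j} ((Finset.card_le_two).trans (by omega))
    obtain ⟨m, hm, hm'⟩ := exists_outside (Ω := Ω') (by omega) hn {i, k}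
      ((Finset.card_le_two).trans (by omega))
    simp only [Finset.mem_insert, Finset.mem_singleton, not_or] at hl' hm'
    have hij : i ≠ j := fun e => hiΩ' (e ▸ hj')
    have hil : i ≠ l := fun e => hl'.1 e.symm
    have hik : i ≠ k := fun e => hiΩ (e ▸ hk)
    have him : i ≠ m := fun e => hm'.1 e.symm
    have hx : tri hij hil ∈ L := (hL _).2 fun y hy => tri_other hij hil
      (fun e => hiΩ (e ▸ hy)) (fun e => hjΩ (e ▸ hy)) (fun e => hl (e ▸ hy))
    have hy : tri hik him ∈ L.map (MulAut.conj g).toMonoidHom := (mem_fix_iff_conj hL g _).2 fun y hy =>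
      tri_other hik him (fun e => hiΩ' (e ▸ hy)) (fun e => hkΩ' (e ▸ hy)) (fun e => hm (e ▸ hy))
    have := congrArg (fun τ : ↥(alternatingGroup α) => (τ : Perm α) i)
      (mem_centralizer_iff.1 (commutator_eq_bot_iff_le_centralizer.1 hcomm hx) _ hy)
    simp only [Subgroup.coe_mul, Perm.coe_mul, Function.comp_apply, tri_fst hij hil (fun e => hl'.2 e.symm),
      tri_fst hik him (fun e => hm'.2 e.symm)] at this
    rw [tri_other hik him hij.symm (fun e => hkΩ' (e ▸ hj')) (fun e => hm (e ▸ hj')),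
      tri_other hij hil hik.symm (fun e => hjΩ (e ▸ hk)) (fun e => hl (e ▸ hk))] at this
    exact hkΩ' (this ▸ hj')
  · refine le_antisymm (Coprime.normalizer_le_normalizer_centralizer L) fun g hg => (hnorm g).2 ?_
    have hmap := map_conj_eq_of_mem_normalizer hg
    rw [hC] at hmap
    refine Finset.eq_of_subset_of_card_le (fun x hx => ?_)
      (Finset.card_image_of_injective _ (g : Perm α).injective).ge
    by_contra hxΩ
    obtain ⟨y, hy, rfl⟩ := Finset.mem_image.1 hx
    obtain ⟨u, hu, v, hv, hyu, hyv, huv⟩ : ∃ u ∈ Ω, ∃ v ∈ Ω, y ≠ u ∧ y ≠ v ∧ u ≠ v := by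
      obtain ⟨u, hu, v, hv, huv⟩ := Finset.one_lt_card.1 (by
        rw [Finset.card_erase_of_mem hy]; omega : 1 < (Ω.erase y).card)
      rw [Finset.mem_erase] at hu hv
      exact ⟨u, hu.2, v, hv.2, hu.1.symm, hv.1.symm, huv⟩
    have hmem : tri hyu hyv ∈ suppIn Ω := fun z hz => tri_other hyu hyv
      (fun e => hz (e ▸ hy)) (fun e => hz (e ▸ hu)) (fun e => hz (e ▸ hv))
    have h1 := (hmap.le (mem_map_of_mem (MulAut.conj g).toMonoidHom hmem)) _ hxΩ
    change (g : Perm α) ((tri hyu hyv : Perm α) ((g : Perm α)⁻¹ ((g : Perm α) y))) = (g : Perm α) y at h1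
    rw [inv_apply', tri_fst hyu hyv huv] at h1
    exact hyu ((g : Perm α).injective h1).symm

end Cfsg.Agent.Lib.Components.AltStandard
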