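import Cfsg.Prelude.Def_Local
import Cfsg.Agent.Lib.Components.PComponent
import Cfsg.Agent.Lib.Coprime.Abelian

/-!
A standard subgroup with centralizer of 2-rank one centralizes the core.
-/

set_option autoImplicit false
set_option linter.style.haveILetI false
open Subgroup
open scoped commutatorElement

namespace Cfsg.Agent.Lib.Components.StandardCore

open Cfsg.Agent.Lib.Components

variable {X : Type*} [Group X] [Finite X] {P : Subgroup X}

theorem odd_card_oddCore : Odd (Nat.card ↥(oddCore X)) := by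
  have h := pPrimeCore_coprime (G := X) 2
  rw [Nat.coprime_comm, Nat.Prime.coprime_iff_not_dvd Nat.prime_two] at h
  exact Nat.not_even_iff_odd.1 fun he => h he.two_dvd

theorem not_involution_mem_odd {K : Subgroup X} (hK : Odd (Nat.card ↥K)) {x : X} (hx : x ∈ K)
    (h2 : x ^ 2 = 1) : x = 1 := by
  have hd := Subgroup.orderOf_dvd_natCard K hx
  have : orderOf x ∣ Nat.gcd 2 (Nat.card ↥K) := Nat.dvd_gcd (orderOf_dvd_of_pow_eq_one h2) hd
  rw [Nat.Coprime.gcd_eq_one (by rw [Nat.coprime_two_left]; exact hK)] at this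
  exact orderOf_eq_one_iff.1 (Nat.dvd_one.1 this)

/-- An element centralizing an involution of `C(P)` normalizes `P`. -/
theorem centralizer_le (hP : IsStandardSubgroup P) {t : X} (ht : orderOf t = 2)
    (htP : t ∈ centralizer (P : Set X)) :
    centralizer ({t} : Set X) ≤ normalizer (P : Set X) := by
  intro g hg
  rw [hP.2.2.2]
  by_contra h
  have hodd := hP.2.1.2 g h
  have hmem : t ∈ centralizer (P : Set X) ⊓ (centralizer (P : Set X)).map (MulAut.conj g).toMonoidHom := by
    refine ⟨htP, t, htP, ?_⟩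
    show g * t * g⁻¹ = t
    rw [mem_centralizer_singleton_iff.1 hg, mul_inv_cancel_right]
  have h1 := not_involution_mem_odd hodd hmem (by rw [← ht]; exact pow_orderOf_eq_one t)
  rw [h1, orderOf_one] at ht
  norm_num at ht

/-- `P` centralizes the part of the core normalizing it. -/
theorem comm_inf_normalizer (hP : IsStandardSubgroup P) {p₀ : X} (hp₀ : p₀ ∈ P) (hp2 : p₀ ^ 2 = 1)
    (hp1 : p₀ ≠ 1) :
    ⁅P, oddCore X ⊓ normalizer (P : Set X)⁆ = ⊥ := by
  have hperf := isQuasisimple_perfect hP.1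
  refine commutator_eq_bot_of_perfect hperf ?_
  have hsub : ⁅oddCore X ⊓ normalizer (P : Set X), P⁆ ≤ P ⊓ oddCore X := by
    refine commutator_le.2 fun x hx y hy => ⟨?_, ?_⟩
    · rw [commutatorElement_def]
      exact mul_mem ((mem_normalizer_iff.1 hx.2 y).1 hy) (P.inv_mem hy)
    · rw [commutatorElement_def, show x * y * x⁻¹ * y⁻¹ = x * (y * x⁻¹ * y⁻¹) by group]
      exact mul_mem hx.1 ((pPrimeCore_normal 2 X).conj_mem _ (inv_mem hx.1) y)
  have hN : ((oddCore X).subgroupOf P).Normal := (pPrimeCore_normal 2 X).subgroupOf P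
  rcases qs_normal hP.1 hN with h | h
  · exact absurd (not_involution_mem_odd odd_card_oddCore (subgroupOf_eq_top.1 h hp₀) hp2) hp1
  · refine commutator_eq_bot_iff_le_centralizer.2 ?_
    intro z hz
    have hz' := hsub hz
    have hzc : (⟨z, hz'.1⟩ : ↥P) ∈ center ↥P := h hz'.2
    exact mem_centralizer_iff.2 fun y hy => congrArg Subtype.val (mem_center_iff.1 hzc ⟨y, hy⟩)

theorem standard_core (hP : IsStandardSubgroup P)
    (hr : PRankLE 2 1 ↥(centralizer (P : Set X))) (hZ : Odd (Nat.card ↥(center ↥P)))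
    (S : Sylow 2 ↥(normalizer (P : Set X))) (t : X) (ht : orderOf t = 2)
    (htS : t ∈ (S : Subgroup ↥(normalizer (P : Set X))).map (normalizer (P : Set X)).subtype)
    (htP : t ∈ centralizer (P : Set X))
    (g : X) (hgN : ∀ s ∈ (S : Subgroup ↥(normalizer (P : Set X))).map (normalizer (P : Set X)).subtype,
      g * s * g⁻¹ ∈ (S : Subgroup ↥(normalizer (P : Set X))).map (normalizer (P : Set X)).subtype)
    (hgS : g ∉ (S : Subgroup ↥(normalizer (P : Set X))).map (normalizer (P : Set X)).subtype)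
    (hg2 : g ^ 2 ∈ (S : Subgroup ↥(normalizer (P : Set X))).map (normalizer (P : Set X)).subtype)
    (hgt : g * t * g⁻¹ ∈ P ⊔ centralizer (P : Set X)) :
    ⁅P, oddCore X⁆ = ⊥ ∧
      ∀ L : Subgroup X, IsPComponent 2 L → P ≤ L → IsQuasisimple ↥L := by
  let N : Subgroup X := normalizer (P : Set X)
  let S' : Subgroup X := (S : Subgroup ↥N).map N.subtype
  have ht2 : t ^ 2 = 1 := by rw [← ht]; exact pow_orderOf_eq_one t
  have ht1 : t ≠ 1 := fun h => by rw [h, orderOf_one] at ht; norm_num at ht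
  -- `g` lies outside `N(P)`
  have hgnP : g ∉ N := by
    intro h
    have hgn : (⟨g, h⟩ : ↥N) ∈ normalizer ((S : Subgroup ↥N) : Set ↥N) := by
      refine mem_normalizer_fintype (fun s hs => ?_)
      obtain ⟨y, hy, hys⟩ := hgN _ (mem_map_of_mem N.subtype hs)
      rw [show (⟨g, h⟩ : ↥N) * s * ⟨g, h⟩⁻¹ = y from Subtype.ext hys.symm]
      exact hy
    obtain ⟨y, hy, hyg⟩ := hg2
    have hg2S : (⟨g, h⟩ : ↥N) ^ 2 ∈ (S : Subgroup ↥N) := by
      rw [show (⟨g, h⟩ : ↥N) ^ 2 = y from Subtype.ext hyg.symm]; exact hy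
    have hp : IsPGroup 2 ↥(zpowers (⟨g, h⟩ : ↥N)) := by
      obtain ⟨k, hk⟩ := S.2 ⟨_, hg2S⟩
      intro z
      obtain ⟨i, hi⟩ := mem_zpowers_iff.1 z.2
      refine ⟨k + 1, Subtype.ext ?_⟩
      have h1 : (⟨g, h⟩ : ↥N) ^ (2 ^ (k + 1)) = 1 := by
        rw [pow_succ', pow_mul]
        simpa using congrArg Subtype.val hk
      rw [SubmonoidClass.coe_pow, ← hi, ← zpow_natCast, ← zpow_mul, mul_comm, zpow_mul, zpow_natCast,
        h1, one_zpow, OneMemClass.coe_one]
    have hle : zpowers (⟨g, h⟩ : ↥N) ≤ normalizer ((S : Subgroup ↥N) : Set ↥N) := zpowers_le.2 hgn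
    have hsup := IsPGroup.to_sup_of_normal_left' S.2 hp hle
    exact hgS ⟨⟨g, h⟩, (S.is_maximal' hsup le_sup_left).le (mem_sup_right (mem_zpowers _)), rfl⟩
  -- involutions of `C(P)` commuting with `t`
  have huniq : ∀ c : X, c ∈ centralizer (P : Set X) → c ^ 2 = 1 → Commute c t → c = 1 ∨ c = t := by
    intro c hc hc2 hct
    by_contra hne
    push Not at hne
    let A := Subgroup.closure ({(⟨c, hc⟩ : ↥(centralizer (P : Set X))), ⟨t, htP⟩} : Set _)
    haveI hcomm : IsMulCommutative ↥A := isMulCommutative_closure (by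
      rintro x (rfl | rfl) y (rfl | rfl)
      exacts [rfl, Subtype.ext hct.eq, Subtype.ext hct.symm.eq, rfl])
    have hexp : ∀ a ∈ A, a ^ 2 = 1 := by
      intro a ha
      induction ha using closure_induction with
      | mem x hx =>
        rcases hx with rfl | rfl
        · exact Subtype.ext (by simpa using hc2)
        · exact Subtype.ext (by simpa using ht2)
      | one => simp
      | mul x y hx hy ihx ihy =>
        have : Commute x y := congrArg Subtype.val (hcomm.is_comm.comm ⟨x, hx⟩ ⟨y, hy⟩)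
        rw [this.mul_pow, ihx, ihy, one_mul]
      | inv x hx ih => rw [inv_pow, ih, inv_one]
    have h4 := hr A hcomm hexp
    haveI : Fintype ↥A := Fintype.ofFinite _
    have h3 : Nat.card ({1, c, t} : Set X) ≤ Nat.card ↥A := by
      let f : ({1, c, t} : Set X) → ↥A := fun x =>
        ⟨⟨x.1, by
          rcases x.2 with h | h | h
          · rw [h]; exact one_mem _
          · rw [h]; exact hc
          · rw [Set.mem_singleton_iff.1 h]; exact htP⟩, by
          rcases x.2 with h | h | h
          · convert one_mem A using 1; exact Subtype.ext h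
          · apply Subgroup.subset_closure; left; exact Subtype.ext h
          · apply Subgroup.subset_closure; right; exact Subtype.ext (Set.mem_singleton_iff.1 h)⟩
      exact Nat.card_le_card_of_injective f fun x y h => Subtype.ext
        (congrArg (fun z : ↥A => ((z : ↥(centralizer (P : Set X))) : X)) h)
    rw [Nat.card_coe_set_eq, Set.ncard_insert_of_notMem, Set.ncard_pair hne.2] at h3
    · omega
    · rintro (h | h)
      · exact hne.1 h.symm
      · exact ht1 (Set.mem_singleton_iff.1 h).symm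
  -- `t` is central in `S`
  have htc : ∀ s ∈ S', Commute s t := by
    intro s hs
    obtain ⟨⟨s', hs'N⟩, hs', rfl⟩ := hs
    obtain ⟨⟨t', ht'N⟩, ht', ht't⟩ := htS
    obtain rfl : t' = t := ht't
    let T : Subgroup ↥N := (S : Subgroup ↥N) ⊓ (centralizer (P : Set X)).subgroupOf N
    have hTS : IsPGroup 2 ↥T := S.2.to_le inf_le_left
    have hTne : Nontrivial ↥T := ⟨⟨⟨⟨t', ht'N⟩, ht', htP⟩, 1, fun h =>
      ht1 (congrArg (fun z : ↥T => ((z : ↥N) : X)) h)⟩⟩
    haveI := hTS.center_nontrivial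
    obtain ⟨z, hz⟩ := exists_prime_orderOf_dvd_card' (G := ↥(center ↥T)) 2 (by
      obtain ⟨n, hn0, hn⟩ := (IsPGroup.nontrivial_iff_card (hTS.to_subgroup (center ↥T))).1 inferInstance
      exact hn ▸ dvd_pow_self 2 hn0.ne')
    have hz2 : (((z : ↥T) : ↥N) : X) ^ 2 = 1 := by
      have := pow_orderOf_eq_one z
      rw [hz] at this
      simpa using congrArg (fun w : ↥(center ↥T) => (((w : ↥T) : ↥N) : X)) this
    have hztc : ∀ w : ↥T, Commute (((z : ↥T) : ↥N) : X) ((w : ↥N) : X) := fun w =>
      congrArg (fun v : ↥T => ((v : ↥N) : X)) (mem_center_iff.1 z.2 w).symm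
    have hzt : (((z : ↥T) : ↥N) : X) = t' :=
      (huniq _ (z : ↥T).2.2 hz2 (hztc ⟨⟨t', ht'N⟩, ht', htP⟩)).resolve_left fun h => by
        have : z = 1 := Subtype.ext (Subtype.ext (Subtype.ext h))
        rw [this, orderOf_one] at hz; norm_num at hz
    -- conjugate of `t`
    have hsC : s' * t' * s'⁻¹ ∈ centralizer (P : Set X) := by
      have hN' : s' ∈ normalizer ((centralizer (P : Set X)) : Set X) := hP.2.2.2 ▸ hs'N
      exact (mem_normalizer_iff.1 hN' t').1 htP
    have hsS : (⟨s', hs'N⟩ : ↥N) * ⟨t', ht'N⟩ * ⟨s', hs'N⟩⁻¹ ∈ T :=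
      ⟨mul_mem (mul_mem hs' ht') ((S : Subgroup ↥N).inv_mem hs'), hsC⟩
    have hc : Commute (s' * t' * s'⁻¹) t' := by
      have := hztc ⟨_, hsS⟩
      rw [hzt] at this
      exact this.symm
    rcases huniq _ hsC (by rw [conj_pow, ht2, mul_one, mul_inv_cancel]) hc with h | h
    · exact absurd (by simpa [mul_inv_eq_one] using h) ht1
    · exact eq_mul_of_mul_inv_eq h
  set u := g * t * g⁻¹ with hu
  have huS : u ∈ S' := hgN t htS
  have hu2 : u ^ 2 = 1 := by rw [hu, conj_pow, ht2, mul_one, mul_inv_cancel]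
  have hu1 : u ≠ 1 := fun h => ht1 (by simpa [hu] using h)
  have hut : u ≠ t := by
    intro h
    exact hgnP (centralizer_le hP ht htP (mem_centralizer_singleton_iff.2 (mul_inv_eq_iff_eq_mul.1 h)))
  have hctu : Commute u t := htc u huS
  have hgu : g * u * g⁻¹ = t := by
    have hc : Commute (g ^ 2) t := htc _ hg2
    calc g * u * g⁻¹ = g ^ 2 * t * (g ^ 2)⁻¹ := by rw [hu, pow_two]; group
      _ = t := by rw [hc.eq, mul_inv_cancel_right]
  -- the part of `u` in `P`
  obtain ⟨p₀, hp₀, hp₀2, hpu⟩ : ∃ p₀ ∈ P, p₀ ^ 2 = 1 ∧ (p₀ = u ∨ p₀ = u * t) := by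
    have hCn : P ≤ normalizer ((centralizer (P : Set X)) : Set X) := hP.2.2.2 ▸ le_normalizer
    obtain ⟨a, ha, c, hc, hac⟩ : ∃ a ∈ P, ∃ c ∈ centralizer (P : Set X), a * c = u := by
      have h' := SetLike.mem_coe.2 hgt
      rw [Subgroup.coe_mul_of_left_le_normalizer_right P _ hCn] at h'
      exact h' 
    have hcomm : Commute a c := mem_centralizer_iff.1 hc a ha
    have key : ∀ n : ℕ, n ≠ 0 → ∃ m k : ℕ, Odd m ∧ n ∣ 2 ^ k * m := by
      intro n hn
      obtain ⟨k, m, hm, rfl⟩ := Nat.exists_eq_two_pow_mul_odd hn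
      exact ⟨m, k, hm, dvd_rfl⟩
    obtain ⟨m₁, k₁, hm₁, hd₁⟩ := key _ (orderOf_pos a).ne'
    obtain ⟨m₂, k₂, hm₂, hd₂⟩ := key _ (orderOf_pos c).ne'
    have hm : Odd (m₁ * m₂) := hm₁.mul hm₂
    have hum : u ^ (m₁ * m₂) = u := by
      obtain ⟨j, hj⟩ := hm
      rw [hj, pow_succ, pow_mul, hu2, one_pow, one_mul]
    have hsplit : a ^ (m₁ * m₂) * c ^ (m₁ * m₂) = u := by rw [← hcomm.mul_pow, hac, hum]
    have hA : (a ^ (m₁ * m₂)) ^ 2 = 1 := by
      have h1 : a ^ (m₁ * m₂ * 2) * c ^ (m₁ * m₂ * 2) = 1 := by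
        rw [← hcomm.mul_pow, hac, pow_mul, hum, hu2]
      have hz : (⟨a ^ (m₁ * m₂ * 2), pow_mem ha _⟩ : ↥P) ∈ center ↥P := mem_center_iff.2 fun y => by
        apply Subtype.ext
        show (y : X) * a ^ (m₁ * m₂ * 2) = a ^ (m₁ * m₂ * 2) * y
        have : Commute (y : X) (c ^ (m₁ * m₂ * 2))⁻¹ :=
          ((show Commute (y : X) c from mem_centralizer_iff.1 hc y y.2).pow_right _).inv_right
        rw [← eq_inv_of_mul_eq_one_left h1] at this
        exact this.eq
      rw [← pow_mul]
      have h2 := orderOf_dvd_natCard (⟨_, hz⟩ : ↥(center ↥P))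
      have h3 : orderOf (⟨_, hz⟩ : ↥(center ↥P)) = orderOf (a ^ (m₁ * m₂ * 2)) := by
        simp [← orderOf_coe]
      rw [h3] at h2
      have h4 : orderOf (a ^ (m₁ * m₂ * 2)) ∣ 2 ^ k₁ := by
        refine orderOf_dvd_of_pow_eq_one ?_
        rw [← pow_mul, show m₁ * m₂ * 2 * 2 ^ k₁ = (2 ^ k₁ * m₁) * (m₂ * 2) by ring]
        exact orderOf_dvd_iff_pow_eq_one.1 (hd₁.trans (dvd_mul_right _ _))
      refine orderOf_eq_one_iff.1 (Nat.eq_one_of_dvd_coprimes ?_ h4 h2)
      exact Nat.Coprime.pow_left k₁ (by rw [Nat.coprime_two_left]; exact hZ)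
    have hC : (c ^ (m₁ * m₂)) ^ 2 = 1 := by
      have h1 : a ^ (m₁ * m₂ * 2) * c ^ (m₁ * m₂ * 2) = 1 := by
        rw [← hcomm.mul_pow, hac, pow_mul, hum, hu2]
      rw [pow_mul a, hA, one_mul] at h1
      rw [← pow_mul]; exact h1
    have hat : Commute (a ^ (m₁ * m₂)) t :=
      (show Commute a t from mem_centralizer_iff.1 htP a ha).pow_left _
    have hct : Commute (c ^ (m₁ * m₂)) t := by
      have h5 := (hat.inv_left).mul_left hctu
      rwa [← hsplit, inv_mul_cancel_left] at h5
    rcases huniq _ (pow_mem hc _) hC hct with h | h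
    · exact ⟨_, pow_mem ha _, hA, Or.inl (by rw [← hsplit, h, mul_one])⟩
    · refine ⟨_, pow_mem ha _, hA, Or.inr ?_⟩
      rw [← hsplit, h, mul_assoc, ← pow_two, ht2, mul_one]
  have hp₀1 : p₀ ≠ 1 := by
    rintro rfl
    rcases hpu with h | h
    · exact hu1 h.symm
    · exact hut (by
        have := eq_inv_of_mul_eq_one_left h.symm
        rwa [inv_eq_of_mul_eq_one_right (by rw [← pow_two, ht2] : t * t = 1)] at this)
  set O := oddCore X with hO
  have hPO := commutator_eq_bot_iff_le_centralizer.1 (comm_inf_normalizer hP hp₀ hp₀2 hp₀1)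
  have hCt : ∀ x ∈ O, Commute x t → ∀ y ∈ P, Commute y x := by
    intro x hx hxt y hy
    exact (mem_centralizer_iff.1 (hPO hy) x
      ⟨hx, centralizer_le hP ht htP (mem_centralizer_singleton_iff.2 hxt.eq)⟩).symm
  have hOn : ∀ x ∈ O, ∀ y : X, y * x * y⁻¹ ∈ O := fun x hx y => (pPrimeCore_normal 2 X).conj_mem x hx y
  have hgen2 : g⁻¹ * t * g = u := by rw [← hgu]; group
  -- `C_O(u) ≤ C(t)`
  have hut' : ∀ x ∈ O, Commute x u → Commute x t := by
    intro x hx hxu
    have h1 : Commute (g⁻¹ * x * g) t := by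
      have e : g⁻¹ * u * g = t := by rw [hu]; group
      have := hxu.map (MulAut.conj g⁻¹).toMonoidHom
      simpa [e] using this
    have h2 : g⁻¹ * x * g ∈ O := by simpa using hOn x hx g⁻¹
    have h3 := hCt _ h2 h1 p₀ hp₀
    have h4 : Commute (g * p₀ * g⁻¹) x := by
      have := h3.map (MulAut.conj g).toMonoidHom
      simpa [show g * (g⁻¹ * x * g) * g⁻¹ = x by group] using this
    rcases hpu with h | h
    · rw [h, hgu] at h4; exact h4.symm
    · rw [h, show g * (u * t) * g⁻¹ = (g * u * g⁻¹) * (g * t * g⁻¹) by group, hgu, ← hu] at h4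
      have := (h4.symm.mul_right hxu.inv_right)
      rwa [mul_inv_cancel_right] at this
  have htu' : ∀ x ∈ O, Commute x t → Commute x u := by
    intro x hx hxt
    have h1 : Commute (g * x * g⁻¹) u := hxt.map (MulAut.conj g).toMonoidHom
    have h2 := (hut' _ (hOn x hx g) h1).map (MulAut.conj g⁻¹).toMonoidHom
    simpa [show g⁻¹ * (g * x * g⁻¹) * g = x by group, hgen2] using h2
  -- `t * u` centralizes the core
  have hw : ∀ x ∈ O, Commute x (t * u) := by
    let B : Subgroup X := closure {t, u}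
    haveI hB : IsMulCommutative ↥B := isMulCommutative_closure (by
      rintro x (rfl | rfl) y (rfl | rfl)
      exacts [rfl, hctu.symm.eq, hctu.eq, rfl])
    have hB2 : ∀ b ∈ B, b ^ 2 = 1 := by
      intro a ha
      induction ha using closure_induction with
      | mem x hx => rcases hx with rfl | rfl <;> assumption
      | one => simp
      | mul x y hx hy ihx ihy =>
        have : Commute x y := congrArg Subtype.val (hB.is_comm.comm ⟨x, hx⟩ ⟨y, hy⟩)
        rw [this.mul_pow, ihx, ihy, one_mul]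
      | inv x hx ih => rw [inv_pow, ih, inv_one]
    have htB : t ∈ B := Subgroup.subset_closure (by simp)
    have huB : u ∈ B := Subgroup.subset_closure (by simp)
    have hnc : ¬ IsCyclic ↥B := by
      intro hcy
      obtain ⟨b, hb⟩ := hcy.exists_generator
      have key : ∀ v : X, v ∈ B → v ≠ 1 → v = (b : X) := by
        intro v hv hv1
        obtain ⟨i, hi⟩ := mem_zpowers_iff.1 (hb ⟨v, hv⟩)
        have hi' : (b : X) ^ i = v := by simpa using congrArg Subtype.val hi
        have hb2 : (b : X) ^ (2 : ℤ) = 1 := by exact_mod_cast hB2 _ b.2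
        rcases Int.even_or_odd' i with ⟨j, rfl | rfl⟩
        · rw [zpow_mul, hb2, one_zpow] at hi'; exact absurd hi'.symm hv1
        · rw [zpow_add, zpow_mul, hb2, one_zpow, one_mul, zpow_one] at hi'; exact hi'.symm
      exact hut ((key u huB hu1).trans (key t htB ht1).symm)
    have hcop : (Nat.card ↥B).Coprime (Nat.card ↥O) := by
      obtain ⟨n, hn⟩ := IsPGroup.iff_card.1 (show IsPGroup 2 ↥B from fun b => ⟨1, Subtype.ext (by simpa using hB2 _ b.2)⟩)
      rw [hn]
      exact Nat.Coprime.pow_left n (by rw [Nat.coprime_two_left]; exact odd_card_oddCore)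
    have hBO : B ≤ normalizer (O : Set X) := by
      intro y _
      exact mem_normalizer_fintype (fun x hx => hOn x hx y)
    have hgenO := Cfsg.Agent.Lib.Coprime.fixGen_eq (A := B) hnc hBO hcop
    have hle : O ≤ centralizer ({t * u} : Set X) := by
      rw [← hgenO]
      refine iSup₂_le fun b hb x hx => mem_centralizer_singleton_iff.2 ?_
      obtain ⟨hbB, hb1⟩ := hb
      have hxb : Commute x b := mem_centralizer_singleton_iff.1 hx.2
      have hclass : b = t ∨ b = u ∨ b = t * u := by
        have : ∀ y ∈ B, y = 1 ∨ y = t ∨ y = u ∨ y = t * u := by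
          intro y hy
          have htt : t * t = 1 := by rw [← pow_two, ht2]
          have huu : u * u = 1 := by rw [← pow_two, hu2]
          induction hy using closure_induction with
          | mem z hz =>
            rcases hz with hz | hz
            · exact Or.inr (Or.inl hz)
            · exact Or.inr (Or.inr (Or.inl hz))
          | one => simp
          | inv z hz ih =>
            have : z⁻¹ = z := inv_eq_of_mul_eq_one_right (by rw [← pow_two]; exact hB2 z hz)
            rwa [this]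
          | mul z w hz hw ihz ihw =>
            rcases ihz with h | h | h | h <;> rcases ihw with k | k | k | k <;> rw [h, k] <;>
              simp [htt, huu, hctu.eq, mul_assoc, ← mul_assoc t t, ← mul_assoc u u,
                ← mul_assoc u t]
        rcases this b hbB with h | h | h | h
        exacts [absurd h hb1, Or.inl h, Or.inr (Or.inl h), Or.inr (Or.inr h)]
      rcases hclass with rfl | rfl | rfl
      · exact (hxb.mul_right (htu' x hx.1 hxb)).eq
      · exact ((hut' x hx.1 hxb).mul_right hxb).eq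
      · exact hxb.eq
    exact fun x hx => mem_centralizer_singleton_iff.1 (hle hx)
  -- conclusion
  have hCO : P ≤ centralizer (O : Set X) := by
    have hK : ((centralizer (O : Set X)).subgroupOf P).Normal := (Subgroup.normal_centralizer).subgroupOf P
    rcases qs_normal hP.1 hK with h | h
    · exact subgroupOf_eq_top.1 h
    exfalso
    have hz2 : (⟨p₀, hp₀⟩ : ↥P) ∈ center ↥P := by
      have hcent : ∀ y : ↥P, ⁅(⟨p₀, hp₀⟩ : ↥P), y⁆ ∈ center ↥P := by
        intro y
        refine h (mem_subgroupOf.2 (mem_centralizer_iff.2 fun x hx => ?_))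
        show x * (p₀ * y * p₀⁻¹ * (y : X)⁻¹) = p₀ * y * p₀⁻¹ * (y : X)⁻¹ * x
        rcases hpu with e | e
        · have hty : Commute t (y : X) := (mem_centralizer_iff.1 htP y y.2).symm
          have hwy : ∀ z ∈ O, Commute z (t * p₀) := fun z hz => by rw [e]; exact hw z hz
          have e1 : p₀ * (y : X) * p₀⁻¹ * (y : X)⁻¹ = (t * p₀) * y * (t * p₀)⁻¹ * (y : X)⁻¹ := by
            have hyt : t * (y : X) = y * t := hty.eq
            have hpt : t * p₀ = p₀ * t := mem_centralizer_iff.1 htP p₀ hp₀ |>.symm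
            rw [hpt, mul_inv_rev, mul_assoc p₀ t, hyt]
            group
          rw [e1]
          have hy' : (y : X)⁻¹ * x * y ∈ O := by simpa using hOn x hx (y : X)⁻¹
          have a1 := (hwy x hx).eq
          have a2 := (hwy _ hy').eq
          calc x * ((t * p₀) * y * (t * p₀)⁻¹ * (y : X)⁻¹)
              = (t * p₀) * y * ((y : X)⁻¹ * x * y) * (t * p₀)⁻¹ * (y : X)⁻¹ := by
                rw [← mul_assoc, ← mul_assoc, ← mul_assoc, a1]; group
            _ = (t * p₀) * y * (t * p₀)⁻¹ * (y : X)⁻¹ * x := by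
                have a3 := ((hwy _ hy').inv_right).eq
                rw [mul_assoc ((t * p₀) * y), a3]; group
        · have hwy : ∀ z ∈ O, Commute z p₀ := fun z hz => by rw [e, hctu.eq]; exact hw z hz
          have hy' : (y : X)⁻¹ * x * y ∈ O := by simpa using hOn x hx (y : X)⁻¹
          have a1 := (hwy x hx).eq
          have a3 := ((hwy _ hy').inv_right).eq
          calc x * (p₀ * y * p₀⁻¹ * (y : X)⁻¹)
              = p₀ * y * ((y : X)⁻¹ * x * y) * p₀⁻¹ * (y : X)⁻¹ := by
                rw [← mul_assoc, ← mul_assoc, ← mul_assoc, a1]; group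
            _ = p₀ * y * p₀⁻¹ * (y : X)⁻¹ * x := by
                rw [mul_assoc (p₀ * y), a3]; group
      have hc2 : QuotientGroup.mk' (center ↥P) ⟨p₀, hp₀⟩ ∈ center (↥P ⧸ center ↥P) := by
        refine mem_center_iff.2 fun v => ?_
        obtain ⟨y, rfl⟩ := QuotientGroup.mk'_surjective _ v
        refine (commutatorElement_eq_one_iff_mul_comm.1 ?_).symm
        rw [← map_commutatorElement]
        exact (QuotientGroup.eq_one_iff (N := center ↥P) _).2 (hcent y)
      haveI := hP.1.2
      have hbot : center (↥P ⧸ center ↥P) = ⊥ := by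
        rcases (inferInstance : (center (↥P ⧸ center ↥P)).Normal).eq_bot_or_eq_top with h' | h'
        · exact h'
        · exact absurd ⟨⟨fun a b => (mem_center_iff.1 (h' ▸ mem_top b) a)⟩⟩
            (qs_quotient_not_commutative hP.1)
      rw [hbot, mem_bot] at hc2
      exact (QuotientGroup.eq_one_iff (N := center ↥P) _).1 hc2
    refine hp₀1 (congrArg Subtype.val (?_ : (⟨p₀, hp₀⟩ : ↥P) = 1))
    have := not_involution_mem_odd (X := ↥P) hZ hz2 (Subtype.ext (by simpa using hp₀2))
    exact this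
  refine ⟨commutator_eq_bot_iff_le_centralizer.2 hCO, fun L hL hPL => ?_⟩
  rw [pcomp_quasisimple_iff hL]
  haveI : (centralizer (O : Set X)).Normal := Subgroup.normal_centralizer
  refine commutator_eq_bot_iff_le_centralizer.2 ?_
  let K : Subgroup X := L ⊓ centralizer (O : Set X)
  have hKn : (K.subgroupOf L).Normal := by
    rw [inf_subgroupOf_left]; infer_instance
  have hKL : K ≤ L := inf_le_left
  have hKsn : K.IsSubnormal := by
    have := hKn.isSubnormal.trans' hL.1
    rwa [subgroupOf_map_subtype, inf_eq_left.2 hKL] at this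
  have hmap : K.map (QuotientGroup.mk' (pPrimeCore 2 X)) = L.map (QuotientGroup.mk' (pPrimeCore 2 X)) := by
    have hq := pcomp_quotient_qs hL
    have hn : ((K.subgroupOf L).map (QuotientGroup.mk' (pPrimeCore 2 ↥L))).Normal :=
      hKn.map _ (QuotientGroup.mk'_surjective _)
    rcases qs_normal hq hn with h | h
    · refine le_antisymm (map_mono hKL) ?_
      rintro _ ⟨l, hl, rfl⟩
      have h1 : QuotientGroup.mk' (pPrimeCore 2 ↥L) ⟨l, hl⟩ ∈ (K.subgroupOf L).map (QuotientGroup.mk' (pPrimeCore 2 ↥L)) := h ▸ mem_top _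
      obtain ⟨k, hk, hkl⟩ := h1
      refine ⟨k, hk, ?_⟩
      have h2 : (k : ↥L)⁻¹ * ⟨l, hl⟩ ∈ pPrimeCore 2 ↥L := (QuotientGroup.eq).1 hkl
      rw [← pPrimeCore_subgroupOf hL.1] at h2
      exact (QuotientGroup.eq).2 h2
    · exfalso
      have hperf := isQuasisimple_perfect hP.1
      have hPK : P ≤ K := le_inf hPL hCO
      let f : ↥P →* ↥L ⧸ pPrimeCore 2 ↥L := (QuotientGroup.mk' _).comp (inclusion hPL)
      have hfc : f.range ≤ center _ := by
        rintro _ ⟨y, rfl⟩
        exact h ⟨inclusion hPL y, hPK y.2, rfl⟩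
      haveI := hP.1.1
      have hcomm' : commutator ↥P ≤ f.ker := by
        rw [_root_.commutator_def, commutator_le]
        intro a _ b _
        show f ⁅a, b⁆ = 1
        rw [map_commutatorElement, commutatorElement_eq_one_iff_mul_comm]
        exact (mem_center_iff.1 (hfc ⟨a, rfl⟩) (f b)).symm
      rw [Group.IsPerfect.commutator_eq_top] at hcomm'
      have h1 : inclusion hPL ⟨p₀, hp₀⟩ ∈ pPrimeCore 2 ↥L :=
        (QuotientGroup.eq_one_iff (N := pPrimeCore 2 ↥L) _).1 (hcomm' (mem_top (⟨p₀, hp₀⟩ : ↥P)))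
      rw [← pPrimeCore_subgroupOf hL.1] at h1
      exact hp₀1 (not_involution_mem_odd odd_card_oddCore (mem_subgroupOf.1 h1) hp₀2)
  exact (hL.2.2 K hKsn hKL hmap).ge.trans inf_le_right

end Cfsg.Agent.Lib.Components.StandardCore
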